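import Mathlib

/-!
# Pairs of involutions with odd products: the basic tools
-/

set_option autoImplicit false

namespace Cfsg.Agent.OddProd

open Equiv

variable {ι : Type*} [Fintype ι] [DecidableEq ι]

/-- `x` is an involution or trivial. -/
def Invol (x : Perm ι) : Prop := ∀ v, x (x v) = v

/-- The pair `x, y` has a common partner `z` with odd products, inside the union of the supports. -/
def Good (x y : Perm ι) : Prop :=
  ∃ z : Perm ι, Invol z ∧ z.support.card = x.support.card ∧ z.support ⊆ x.support ∪ y.support ∧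
    Odd (orderOf (x * z)) ∧ Odd (orderOf (y * z))

lemma Good.symm {x y : Perm ι} (hc : x.support.card = y.support.card) (h : Good x y) : Good y x := by
  obtain ⟨z, h1, h2, h3, h4, h5⟩ := h
  exact ⟨z, h1, h2.trans hc, by rwa [Finset.union_comm], h5, h4⟩

lemma Invol.inv_eq {x : Perm ι} (hx : Invol x) : x⁻¹ = x :=
  inv_eq_of_mul_eq_one_right (Equiv.ext hx)

lemma Invol.mul {x r : Perm ι} (hx : Invol x) (hr : Invol r) (hc : Perm.Disjoint x r) :
    Invol (x * r) := by
  intro v
  have e : x * r * (x * r) = (x * x) * (r * r) := by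
    rw [mul_assoc, ← mul_assoc r x r, ← hc.commute.eq, mul_assoc, mul_assoc]
  have h1 : x * x = 1 := Equiv.ext hx
  have h2 : r * r = 1 := Equiv.ext hr
  rw [h1, h2, mul_one] at e
  exact congrArg (fun s : Perm ι => s v) e

lemma invol_swap (a b : ι) : Invol (swap a b) := fun v => swap_apply_self a b v

/-- Removing the cycle through `a`. -/
lemma cut_spec {x : Perm ι} (hx : Invol x) {a b : ι} (hab : x a = b) (hne : a ≠ b) :
    Invol (swap a b * x) ∧ (swap a b * x).support = x.support \ {a, b} ∧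
      (swap a b * x).support.card + 2 = x.support.card ∧
      ∀ v, v ≠ a → v ≠ b → (swap a b * x) v = x v := by
  have hba : x b = a := by rw [← hab, hx]
  have happ : ∀ v, (swap a b * x) v = if v = a ∨ v = b then v else x v := by
    intro v
    rw [Perm.mul_apply]
    by_cases ha : v = a
    · simp [ha, hab]
    by_cases hb : v = b
    · simp [hb, hba]
    rw [if_neg (by tauto)]
    refine swap_apply_of_ne_of_ne ?_ ?_
    · intro e
      exact hb (by rw [← hx v, e, hab])
    · intro e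
      exact ha (by rw [← hx v, e, hba])
  have hsupp : (swap a b * x).support = x.support \ {a, b} := by
    ext v
    simp only [Perm.mem_support, happ, Finset.mem_sdiff, Finset.mem_insert, Finset.mem_singleton]
    split_ifs with h <;> simp [h]
  refine ⟨fun v => ?_, hsupp, ?_, fun v ha hb => by rw [happ, if_neg (by tauto)]⟩
  · rw [happ v]
    split_ifs with h
    · rw [happ, if_pos h]
    · rw [happ, if_neg, hx]
      rintro (e | e)
      · exact h (.inr (by rw [← hx v, e, hab]))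
      · exact h (.inl (by rw [← hx v, e, hba]))
  · have hsub : ({a, b} : Finset ι) ⊆ x.support := by
      simp [Finset.insert_subset_iff, hab, hba, hne, hne.symm]
    rw [hsupp, Finset.card_sdiff_of_subset hsub, Finset.card_pair hne]
    have := Finset.card_le_card hsub
    rw [Finset.card_pair hne] at this
    omega

/-- Adding a transposition on two fixed points. -/
lemma add_spec {x : Perm ι} (hx : Invol x) {a b : ι} (ha : x a = a) (hb : x b = b) (hne : a ≠ b) :
    Invol (swap a b * x) ∧ (swap a b * x).support = {a, b} ∪ x.support ∧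
      (swap a b * x).support.card = x.support.card + 2 ∧
      (swap a b * x) a = b ∧ (swap a b * x) b = a ∧
      ∀ v, v ≠ a → v ≠ b → (swap a b * x) v = x v := by
  have hd : Perm.Disjoint (swap a b) x := fun v => by
    by_cases h : v = a ∨ v = b
    · rcases h with rfl | rfl
      · exact .inr ha
      · exact .inr hb
    · exact .inl (swap_apply_of_ne_of_ne (fun e => h (.inl e)) (fun e => h (.inr e)))
  refine ⟨(invol_swap a b).mul hx hd, ?_, ?_, ?_, ?_, ?_⟩
  · rw [hd.support_mul, Perm.support_swap hne]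
  · rw [hd.card_support_mul, Perm.support_swap hne, Finset.card_pair hne, add_comm]
  · simp [Perm.mul_apply, ha]
  · simp [Perm.mul_apply, hb]
  · intro v h1 h2
    rw [Perm.mul_apply]
    refine swap_apply_of_ne_of_ne ?_ ?_
    · intro e; exact h1 (by rw [← hx v, e, ha])
    · intro e; exact h2 (by rw [← hx v, e, hb])

lemma orderOf_odd_of_pow {g : Perm ι} (h : ∀ v, ∃ m, Odd m ∧ (g ^ m) v = v) :
    Odd (orderOf g) := by
  choose m hm hv using h
  have hdvd : orderOf g ∣ ∏ v, m v := by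
    rw [orderOf_dvd_iff_pow_eq_one]
    refine Equiv.ext fun v => ?_
    obtain ⟨k, hk⟩ := Finset.dvd_prod_of_mem m (Finset.mem_univ v)
    rw [hk, pow_mul, Perm.one_apply]
    exact Perm.pow_apply_eq_self_of_apply_eq_self (hv v) k
  refine Odd.of_dvd_nat ?_ hdvd
  exact Finset.prod_induction _ Odd (fun _ _ h1 h2 => h1.mul h2) odd_one (fun v _ => hm v)

/-- Odd order is inherited from a contraction. -/
lemma odd_of_lift {g g' : Perm ι} (A : Finset ι) (hA : ∀ a ∈ A, g' a = a)
    (hg' : Odd (orderOf g')) (hstep : ∀ s, s ∉ A → ∃ j, Odd j ∧ (g ^ j) s = g' s)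
    (hreach : ∀ a ∈ A, ∃ s, s ∉ A ∧ ∃ i : ℕ, (g ^ i) s = a) : Odd (orderOf g) := by
  have hout : ∀ s, s ∉ A → ∀ k : ℕ, (g' ^ k) s ∉ A := by
    intro s hs k
    induction k with
    | zero => simpa using hs
    | succ k ih =>
      rw [pow_succ', Perm.mul_apply]
      intro hmem
      exact ih (g'.injective (hA _ hmem) ▸ hmem)
  have key : ∀ s, s ∉ A → ∃ m, Odd m ∧ (g ^ m) s = s := by
    intro s hs
    have hk : ∀ k : ℕ, ∃ j, (Odd j ↔ Odd k) ∧ (g ^ j) s = (g' ^ k) s := by
      intro k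
      induction k with
      | zero => exact ⟨0, Iff.rfl, by simp⟩
      | succ k ih =>
        obtain ⟨j, hj, hjs⟩ := ih
        obtain ⟨i, hi, his⟩ := hstep _ (hout s hs k)
        refine ⟨i + j, ?_, ?_⟩
        · simp only [Nat.odd_iff] at hi hj ⊢
          omega
        · rw [pow_add, Perm.mul_apply, hjs, his, pow_succ', Perm.mul_apply]
    obtain ⟨j, hj, hjs⟩ := hk (orderOf g')
    rw [pow_orderOf_eq_one] at hjs
    exact ⟨j, hj.mpr hg', hjs⟩
  refine orderOf_odd_of_pow fun v => ?_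
  by_cases hv : v ∈ A
  · obtain ⟨s, hs, i, rfl⟩ := hreach v hv
    obtain ⟨m, hm, hms⟩ := key s hs
    exact ⟨m, hm, by rw [← Perm.mul_apply, ← pow_add, add_comm, pow_add, Perm.mul_apply, hms]⟩
  · exact key v hv

lemma odd_orderOf_mul {g h : Perm ι} (hd : Perm.Disjoint g h) (hg : Odd (orderOf g))
    (hh : Odd (orderOf h)) : Odd (orderOf (g * h)) := by
  refine Odd.of_dvd_nat (hg.mul hh) (hd.commute.orderOf_mul_dvd_lcm.trans ?_)
  exact Nat.lcm_dvd (dvd_mul_right _ _) (dvd_mul_left _ _)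

lemma odd_orderOf_of_pow_eq {g : Perm ι} {m : ℕ} (hm : Odd m) (h : g ^ m = 1) :
    Odd (orderOf g) :=
  Odd.of_dvd_nat hm (orderOf_dvd_of_pow_eq_one h)

lemma support_via {k : ℕ} (v : Fin k ↪ ι) (σ : Perm (Fin k)) :
    (σ.viaEmbedding v).support = σ.support.map v := by
  ext w
  simp only [Perm.mem_support, Finset.mem_map]
  constructor
  · intro hw
    by_cases h : w ∈ Set.range v
    · obtain ⟨i, rfl⟩ := h
      rw [Perm.viaEmbedding_apply] at hw
      exact ⟨i, fun e => hw (by rw [e]), rfl⟩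
    · exact absurd (Perm.viaEmbedding_apply_of_notMem σ v w h) hw
  · rintro ⟨i, hi, rfl⟩
    rw [Perm.viaEmbedding_apply]
    exact fun e => hi (v.injective e)

/-- A certificate for a small configuration. -/
def Cert {k : ℕ} (x₀ y₀ z₀ : Perm (Fin k)) (m m' : ℕ) : Prop :=
  x₀ * x₀ = 1 ∧ y₀ * y₀ = 1 ∧ z₀ * z₀ = 1 ∧
    z₀.support.card = x₀.support.card ∧ y₀.support.card = x₀.support.card ∧
    z₀.support ⊆ x₀.support ∪ y₀.support ∧ x₀.support.Nonempty ∧
    Odd m ∧ (x₀ * z₀) ^ m = 1 ∧ Odd m' ∧ (y₀ * z₀) ^ m' = 1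

/-- A union of components can be solved separately. -/
lemma Good.component {x y : Perm ι} (hx : Invol x) (hy : Invol y)
    (hc : x.support.card = y.support.card) {k : ℕ} (v : Fin k ↪ ι)
    (x₀ y₀ z₀ : Perm (Fin k)) {m m' : ℕ} (hcert : Cert x₀ y₀ z₀ m m')
    (hxv : ∀ i, x (v i) = v (x₀ i)) (hyv : ∀ i, y (v i) = v (y₀ i))
    (rest : ∀ x₂ y₂ : Perm ι, Invol x₂ → Invol y₂ → x₂.support.card = y₂.support.card →
      x₂.support.card < x.support.card →
      (∀ w, w ∉ Set.range v → x₂ w = x w ∧ y₂ w = y w) →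
      (∀ i, x₂ (v i) = v i ∧ y₂ (v i) = v i) → Good x₂ y₂) :
    Good x y := by
  obtain ⟨hx0, hy0, hz0, hcz, hcy, hsub, hne, hm, hmo, hm', hmo'⟩ := hcert
  have hinv : ∀ σ : Perm (Fin k), σ * σ = 1 → Invol (σ.viaEmbedding v) := fun σ hσ w => by
    rw [← Perm.mul_apply, ← Perm.viaEmbeddingHom_apply, ← map_mul, hσ, map_one, Perm.one_apply]
  have split : ∀ (σ : Perm ι) (σ₀ : Perm (Fin k)), Invol σ → σ₀ * σ₀ = 1 →
      (∀ i, σ (v i) = v (σ₀ i)) →
      Invol (σ₀.viaEmbedding v * σ) ∧ (∀ i, (σ₀.viaEmbedding v * σ) (v i) = v i) ∧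
      (∀ w, w ∉ Set.range v → (σ₀.viaEmbedding v * σ) w = σ w) := by
    intro σ σ₀ hσ hσ0 hσv
    have h1 : ∀ i, (σ₀.viaEmbedding v * σ) (v i) = v i := fun i => by
      rw [Perm.mul_apply, hσv, Perm.viaEmbedding_apply, ← Perm.mul_apply, hσ0, Perm.one_apply]
    have h2 : ∀ w, w ∉ Set.range v → σ w ∉ Set.range v := fun w hw ⟨i, hi⟩ => hw
      ⟨σ₀ i, by rw [← hσv, hi, hσ]⟩
    have h3 : ∀ w, w ∉ Set.range v → (σ₀.viaEmbedding v * σ) w = σ w := fun w hw => by
      rw [Perm.mul_apply, Perm.viaEmbedding_apply_of_notMem _ _ _ (h2 w hw)]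
    refine ⟨fun w => ?_, h1, h3⟩
    by_cases hw : w ∈ Set.range v
    · obtain ⟨i, rfl⟩ := hw
      rw [h1, h1]
    · rw [h3 w hw, h3 _ (h2 w hw), hσ]
  obtain ⟨hxi, hxf, hxo⟩ := split x x₀ hx hx0 hxv
  obtain ⟨hyi, hyf, hyo⟩ := split y y₀ hy hy0 hyv
  set x₂ := x₀.viaEmbedding v * x with hx2
  set y₂ := y₀.viaEmbedding v * y with hy2
  have hdis : ∀ (σ₂ : Perm ι) (τ : Perm (Fin k)), (∀ i, σ₂ (v i) = v i) →
      Perm.Disjoint (τ.viaEmbedding v) σ₂ := fun σ₂ τ h w => by
    by_cases hw : w ∈ Set.range v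
    · obtain ⟨i, rfl⟩ := hw
      exact .inr (h i)
    · exact .inl (Perm.viaEmbedding_apply_of_notMem _ _ _ hw)
  have hxeq : x = x₀.viaEmbedding v * x₂ := by
    rw [hx2, ← mul_assoc, ← Perm.viaEmbeddingHom_apply, ← map_mul, hx0, map_one, one_mul]
  have hyeq : y = y₀.viaEmbedding v * y₂ := by
    rw [hy2, ← mul_assoc, ← Perm.viaEmbeddingHom_apply, ← map_mul, hy0, map_one, one_mul]
  have hcx : x.support.card = x₀.support.card + x₂.support.card := by
    conv_lhs => rw [hxeq]
    rw [(hdis x₂ x₀ hxf).card_support_mul, support_via, Finset.card_map]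
  have hcy' : y.support.card = y₀.support.card + y₂.support.card := by
    conv_lhs => rw [hyeq]
    rw [(hdis y₂ y₀ hyf).card_support_mul, support_via, Finset.card_map]
  have hpos := hne.card_pos
  obtain ⟨z₂, hz2, hcz2, hsub2, ho1, ho2⟩ := rest x₂ y₂ hxi hyi (by omega) (by omega)
    (fun w hw => ⟨hxo w hw, hyo w hw⟩) (fun i => ⟨hxf i, hyf i⟩)
  have hzf : ∀ i, z₂ (v i) = v i := fun i => by
    by_contra h
    rcases Finset.mem_union.mp (hsub2 (Perm.mem_support.mpr h)) with h' | h'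
    · exact Perm.mem_support.mp h' (hxf i)
    · exact Perm.mem_support.mp h' (hyf i)
  have hprod : ∀ (σ : Perm ι) (σ₀ : Perm (Fin k)) (σ₂ : Perm ι), σ = σ₀.viaEmbedding v * σ₂ →
      (∀ i, σ₂ (v i) = v i) → ∀ n, Odd n → (σ₀ * z₀) ^ n = 1 → Odd (orderOf (σ₂ * z₂)) →
      Odd (orderOf (σ * (z₀.viaEmbedding v * z₂))) := by
    intro σ σ₀ σ₂ hσ hf n hn hpow ho
    have e : σ * (z₀.viaEmbedding v * z₂) = (σ₀ * z₀).viaEmbedding v * (σ₂ * z₂) := by
      rw [hσ, mul_assoc, ← mul_assoc σ₂, ← (hdis σ₂ z₀ hf).commute.eq,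
        mul_assoc (z₀.viaEmbedding v), ← mul_assoc (σ₀.viaEmbedding v),
        ← Perm.viaEmbeddingHom_apply, ← Perm.viaEmbeddingHom_apply, ← map_mul,
        Perm.viaEmbeddingHom_apply]
    rw [e]
    refine odd_orderOf_mul (hdis _ _ fun i => by rw [Perm.mul_apply, hzf, hf])
      (odd_orderOf_of_pow_eq hn ?_) ho
    rw [← Perm.viaEmbeddingHom_apply, ← map_pow, hpow, map_one]
  refine ⟨z₀.viaEmbedding v * z₂, (hinv z₀ hz0).mul hz2 (hdis _ _ hzf), ?_, ?_,
    hprod x x₀ x₂ hxeq hxf m hm hmo ho1, hprod y y₀ y₂ hyeq hyf m' hm' hmo' ho2⟩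
  · rw [(hdis _ _ hzf).card_support_mul, support_via, Finset.card_map]
    omega
  · rw [(hdis _ _ hzf).support_mul, support_via]
    rw [show x.support = x₀.support.map v ∪ x₂.support by
        conv_lhs => rw [hxeq]
        rw [(hdis x₂ x₀ hxf).support_mul, support_via],
      show y.support = y₀.support.map v ∪ y₂.support by
        conv_lhs => rw [hyeq]
        rw [(hdis y₂ y₀ hyf).support_mul, support_via]]
    intro w hw
    rcases Finset.mem_union.mp hw with h | h
    · have := Finset.map_subset_map (f := v).mpr hsub h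
      rw [Finset.map_union] at this
      simp only [Finset.mem_union] at this ⊢
      tauto
    · have := hsub2 h
      simp only [Finset.mem_union] at this ⊢
      tauto

end Cfsg.Agent.OddProd
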