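import Cfsg.Agent.Lib.OddProd.Induct

/-!
# The odd-product graph on a class of involutions of a symmetric group
-/

set_option autoImplicit false

namespace Cfsg.Agent.OddProd

open Equiv

variable {n : ℕ}

lemma cycleType_invol {x : Perm (Fin n)} (hx : Invol x) :
    x.cycleType = Multiset.replicate (x.support.card / 2) 2 := by
  haveI : Fact (Nat.Prime 2) := ⟨Nat.prime_two⟩
  have hpow : x ^ 2 = 1 := by rw [sq]; exact Equiv.ext hx
  by_cases h1 : x = 1
  · simp [h1]
  have hord : orderOf x = 2 := orderOf_eq_prime hpow h1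
  obtain ⟨k, hk⟩ := Perm.cycleType_prime_order (σ := x) (hord ▸ Nat.prime_two)
  rw [hord] at hk
  have hs := Perm.sum_cycleType x
  rw [hk, Multiset.sum_replicate, smul_eq_mul] at hs
  rw [hk]
  congr 1
  omega

lemma isConj_of_card {x y : Perm (Fin n)} (hx : Invol x) (hy : Invol y)
    (h : x.support.card = y.support.card) : IsConj x y := by
  rw [Perm.isConj_iff_cycleType_eq, cycleType_invol hx, cycleType_invol hy, h]

lemma invol_of_orderOf {x : Perm (Fin n)} (h : orderOf x = 2) : Invol x := fun v => by
  have e : x * x = 1 := by rw [← sq, ← h, pow_orderOf_eq_one]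
  exact congrArg (fun s : Perm (Fin n) => s v) e

lemma card_of_isConj {x y : Perm (Fin n)} (h : IsConj x y) :
    x.support.card = y.support.card := by
  rw [← Perm.sum_cycleType, ← Perm.sum_cycleType, Perm.isConj_iff_cycleType_eq.mp h]

lemma orderOf_of_isConj {x y : Perm (Fin n)} (h : IsConj x y) : orderOf x = orderOf y := by
  obtain ⟨c, hc⟩ := isConj_iff.mp h
  rw [← hc, ← MulAut.conj_apply]
  exact (MulEquiv.orderOf_eq (MulAut.conj c) x).symm

theorem exists_common (hn : 5 ≤ n) {x y : Perm (Fin n)} (hx : Invol x) (hy : Invol y)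
    (hc : x.support.card = y.support.card) :
    ∃ z, Invol z ∧ z.support.card = x.support.card ∧ Odd (orderOf (x * z)) ∧
      Odd (orderOf (y * z)) := by
  rcases isSq_or_good _ x y rfl hx hy hc with ⟨h4, a, b, c, d, h1, h2, h3, h5, n1, n2, n3, n4, n5, n6⟩ | hG
  · obtain ⟨e, he⟩ : ∃ e, e ∉ ({a, b, c, d} : Finset (Fin n)) := by
      refine Finset.exists_mem_notMem_of_card_lt_card (t := Finset.univ) ?_ |>.imp fun e h => h.2
      rw [Finset.card_univ, Fintype.card_fin, Finset.card_insert_of_notMem (by simp [n1, n2, n3]),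
        Finset.card_insert_of_notMem (by simp [n4, n5]), Finset.card_pair n6]
      omega
    simp only [Finset.mem_insert, Finset.mem_singleton, not_or] at he
    have hinj : Function.Injective ![a, b, c, d, e] := List.nodup_ofFn.mp (by
      simp only [List.ofFn_succ, List.ofFn_zero, List.nodup_cons, List.mem_cons, List.not_mem_nil,
        or_false, not_or, not_false_eq_true, List.nodup_nil, and_true, Matrix.cons_val_zero,
        Matrix.cons_val_succ]
      exact ⟨⟨n1, n2, n3, Ne.symm he.1⟩, ⟨n4, n5, Ne.symm he.2.1⟩, ⟨n6, Ne.symm he.2.2.1⟩,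
        Ne.symm he.2.2.2⟩)
    set v : Fin 5 ↪ Fin n := ⟨_, hinj⟩ with hv
    have hxb : x b = a := by rw [← h1, hx]
    have hxd : x d = c := by rw [← h2, hx]
    have hyc : y c = b := by rw [← h3, hy]
    have hya : y a = d := by rw [← h5, hy]
    have hyc4 : y.support.card = 4 := hc ▸ h4
    have hsx : x.support = {a, b, c, d} := by
      refine (Finset.eq_of_subset_of_card_le ?_ (by
        rw [h4, Finset.card_insert_of_notMem (by simp [n1, n2, n3]),
          Finset.card_insert_of_notMem (by simp [n4, n5]), Finset.card_pair n6])).symm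
      simp only [Finset.insert_subset_iff, Finset.singleton_subset_iff, Perm.mem_support]
      exact ⟨h1 ▸ n1.symm, hxb ▸ n1, h2 ▸ n6.symm, hxd ▸ n6⟩
    have hsy : y.support = {a, b, c, d} := by
      refine (Finset.eq_of_subset_of_card_le ?_ (by
        rw [hyc4, Finset.card_insert_of_notMem (by simp [n1, n2, n3]),
          Finset.card_insert_of_notMem (by simp [n4, n5]), Finset.card_pair n6])).symm
      simp only [Finset.insert_subset_iff, Finset.singleton_subset_iff, Perm.mem_support]
      exact ⟨hya ▸ n3.symm, h3 ▸ n4.symm, hyc ▸ n4, h5 ▸ n3⟩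
    have hxe : x e = e := Perm.notMem_support.mp (by simp [hsx, he])
    have hye : y e = e := Perm.notMem_support.mp (by simp [hsy, he])
    let x₀ : Perm (Fin 5) := swap 0 1 * swap 2 3
    let y₀ : Perm (Fin 5) := swap 1 2 * swap 3 0
    let z₀ : Perm (Fin 5) := swap 0 1 * swap 2 4
    have hxv : x = x₀.viaEmbedding v := by
      refine Equiv.ext fun w => ?_
      by_cases hw : w ∈ Set.range v
      · obtain ⟨i, rfl⟩ := hw
        rw [Perm.viaEmbedding_apply]
        fin_cases i
        all_goals first | exact h1 | exact hxb | exact h2 | exact hxd | exact hxe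
      · rw [Perm.viaEmbedding_apply_of_notMem _ _ _ hw, ← Perm.notMem_support, hsx]
        simp only [Finset.mem_insert, Finset.mem_singleton]
        rintro (rfl | rfl | rfl | rfl)
        · exact hw ⟨0, rfl⟩
        · exact hw ⟨1, rfl⟩
        · exact hw ⟨2, rfl⟩
        · exact hw ⟨3, rfl⟩
    have hyv : y = y₀.viaEmbedding v := by
      refine Equiv.ext fun w => ?_
      by_cases hw : w ∈ Set.range v
      · obtain ⟨i, rfl⟩ := hw
        rw [Perm.viaEmbedding_apply]
        fin_cases i
        all_goals first | exact h3 | exact hyc | exact h5 | exact hya | exact hye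
      · rw [Perm.viaEmbedding_apply_of_notMem _ _ _ hw, ← Perm.notMem_support, hsy]
        simp only [Finset.mem_insert, Finset.mem_singleton]
        rintro (rfl | rfl | rfl | rfl)
        · exact hw ⟨0, rfl⟩
        · exact hw ⟨1, rfl⟩
        · exact hw ⟨2, rfl⟩
        · exact hw ⟨3, rfl⟩
    refine ⟨z₀.viaEmbedding v, fun w => ?_, ?_, ?_, ?_⟩
    · rw [← Perm.mul_apply, ← Perm.viaEmbeddingHom_apply, ← map_mul,
        show z₀ * z₀ = 1 by decide, map_one, Perm.one_apply]
    · rw [support_via, Finset.card_map, h4]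
      decide
    · rw [hxv, ← Perm.viaEmbeddingHom_apply, ← Perm.viaEmbeddingHom_apply, ← map_mul]
      exact odd_orderOf_of_pow_eq (m := 15) (by decide)
        (by rw [← map_pow, show (x₀ * z₀) ^ 15 = 1 by decide +kernel, map_one])
    · rw [hyv, ← Perm.viaEmbeddingHom_apply, ← Perm.viaEmbeddingHom_apply, ← map_mul]
      exact odd_orderOf_of_pow_eq (m := 15) (by decide)
        (by rw [← map_pow, show (y₀ * z₀) ^ 15 = 1 by decide +kernel, map_one])
  · obtain ⟨z, h1, h2, -, h4, h5⟩ := hG
    exact ⟨z, h1, h2, h4, h5⟩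

/-- A distinct commuting member of the class. -/
theorem exists_commuting (hn : 5 ≤ n) {x : Perm (Fin n)} (hx : Invol x) (hx1 : x ≠ 1) :
    ∃ y, Invol y ∧ y.support.card = x.support.card ∧ y ≠ x ∧ Commute x y := by
  obtain ⟨a, ha⟩ := Finset.nonempty_iff_ne_empty.mpr
    (fun e => hx1 (Perm.support_eq_empty_iff.mp e))
  rw [Perm.mem_support] at ha
  set b := x a with hb
  have nab : a ≠ b := Ne.symm ha
  obtain ⟨i1, s1, c1, f1⟩ := cut_spec hx hb.symm nab
  have hxb : x b = a := by rw [hb, hx]
  by_cases h2 : (swap a b * x).support.Nonempty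
  · obtain ⟨c, hc⟩ := h2
    rw [s1, Finset.mem_sdiff, Perm.mem_support] at hc
    simp only [Finset.mem_insert, Finset.mem_singleton, not_or] at hc
    obtain ⟨hc, hca, hcb⟩ := hc
    set d := x c with hd
    have hxd : x d = c := by rw [hd, hx]
    have ncd : c ≠ d := Ne.symm hc
    have nad : a ≠ d := fun e => hcb (by rw [← hxd, ← e])
    have nbd : b ≠ d := fun e => hca (by rw [← hxd, ← e, hxb])
    refine ⟨swap b c * x * (swap b c)⁻¹, fun v => ?_, ?_, ?_, ?_⟩
    · simp [hx _]
    · exact Perm.card_support_conj ..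
    · intro e
      have := congrArg (fun s : Perm (Fin n) => s a) e
      simp only [Perm.mul_apply, swap_inv, swap_apply_of_ne_of_ne nab (Ne.symm hca), ← hb,
        swap_apply_left] at this
      exact hcb this
    · refine Equiv.ext fun v => ?_
      simp only [Perm.mul_apply, swap_inv]
      by_cases va : v = a
      · subst va
        simp [swap_apply_of_ne_of_ne, swap_apply_left, swap_apply_right, nab, Ne.symm hca, ← hb,
          hxb, ← hd, hxd, nad.symm, nbd.symm, ncd.symm]
      by_cases vb : v = b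
      · subst vb
        simp [swap_apply_of_ne_of_ne, swap_apply_left, swap_apply_right, nab, Ne.symm hca, ← hb,
          hxb, ← hd, hxd, nad.symm, nbd.symm, ncd.symm]
      by_cases vc : v = c
      · subst vc
        simp [swap_apply_of_ne_of_ne, swap_apply_left, swap_apply_right, nab, Ne.symm hca, ← hb,
          hxb, ← hd, hxd, nad.symm, nbd.symm, ncd.symm]
      by_cases vd : v = d
      · subst vd
        simp [swap_apply_of_ne_of_ne, swap_apply_left, swap_apply_right, nab, Ne.symm hca, ← hb,
          hxb, ← hd, hxd, nad.symm, nbd.symm, ncd.symm]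
      have e1 : x v ≠ b := fun e => va (by rw [← hx v, e, hxb])
      have e2 : x v ≠ c := fun e => vd (by rw [← hx v, e, ← hd])
      simp [swap_apply_of_ne_of_ne vb vc, swap_apply_of_ne_of_ne e1 e2, hx v]
  · have hxe : x = swap a b := by
      have h0 : swap a b * x = 1 := Perm.support_eq_empty_iff.mp (Finset.not_nonempty_iff_eq_empty.mp h2)
      rw [← inv_eq_of_mul_eq_one_right h0, swap_inv]
    have hcard : 2 ≤ (Finset.univ \ ({a, b} : Finset (Fin n))).card := by
      rw [Finset.card_sdiff_of_subset (Finset.subset_univ _), Finset.card_univ, Fintype.card_fin,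
        Finset.card_pair nab]
      omega
    obtain ⟨c, hc, d, hd, ncd⟩ := Finset.one_lt_card.mp (show 1 < _ from hcard)
    simp only [Finset.mem_sdiff, Finset.mem_univ, true_and, Finset.mem_insert,
      Finset.mem_singleton, not_or] at hc hd
    refine ⟨swap c d, invol_swap c d, ?_, ?_, ?_⟩
    · rw [Perm.support_swap ncd, Finset.card_pair ncd, hxe, Perm.support_swap nab,
        Finset.card_pair nab]
    · intro e
      have := congrArg (fun s : Perm (Fin n) => s a) e
      rw [hxe] at this
      simp [swap_apply_of_ne_of_ne (Ne.symm hc.1) (Ne.symm hd.1), nab] at this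
    · rw [hxe]
      refine Perm.Disjoint.commute fun v => ?_
      by_cases hv : v = a ∨ v = b
      · right
        rcases hv with rfl | rfl
        · exact swap_apply_of_ne_of_ne (Ne.symm hc.1) (Ne.symm hd.1)
        · exact swap_apply_of_ne_of_ne (Ne.symm hc.2) (Ne.symm hd.2)
      · exact .inl (swap_apply_of_ne_of_ne (fun e => hv (.inl e)) (fun e => hv (.inr e)))

theorem graph_diam_two (hn : 5 ≤ n) (t : Perm (Fin n)) (ht : orderOf t = 2) :
    (SimpleGraph.fromRel fun x y : {x : Perm (Fin n) // IsConj t x} =>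
        Odd (orderOf (x.1 * y.1))).Connected ∧
      (SimpleGraph.fromRel fun x y : {x : Perm (Fin n) // IsConj t x} =>
        Odd (orderOf (x.1 * y.1))).diam = 2 := by
  set Γ := SimpleGraph.fromRel fun x y : {x : Perm (Fin n) // IsConj t x} =>
        Odd (orderOf (x.1 * y.1)) with hΓ
  have hI : ∀ x : {x : Perm (Fin n) // IsConj t x}, Invol x.1 := fun x =>
    invol_of_orderOf (by rw [← orderOf_of_isConj x.2, ht])
  have hcard : ∀ x : {x : Perm (Fin n) // IsConj t x}, x.1.support.card = t.support.card :=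
    fun x => (card_of_isConj x.2).symm
  have hIt : Invol t := invol_of_orderOf ht
  have htwo : ∀ x y, ∃ w : Γ.Walk x y, w.length ≤ 2 := by
    intro x y
    obtain ⟨z, h1, h2, h3, h4⟩ := exists_common hn (hI x) (hI y) ((hcard x).trans (hcard y).symm)
    obtain ⟨zz, hzz⟩ : ∃ zz : {x : Perm (Fin n) // IsConj t x}, zz.1 = z :=
      ⟨⟨z, isConj_of_card hIt h1 (by rw [h2, hcard x])⟩, rfl⟩
    have hadj : ∀ u, u ≠ zz → Odd (orderOf (u.1 * z)) → Γ.Adj u zz := fun u hne ho =>
      (SimpleGraph.fromRel_adj _ _ _).mpr ⟨hne, .inl (hzz.symm ▸ ho)⟩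
    by_cases ex : x = zz
    · by_cases ey : y = zz
      · subst ex ey; exact ⟨.nil, by simp⟩
      · subst ex; exact ⟨.cons (hadj y ey h4).symm .nil, by simp⟩
    · by_cases ey : y = zz
      · subst ey; exact ⟨.cons (hadj x ex h3) .nil, by simp⟩
      · exact ⟨.cons (hadj x ex h3) (.cons (hadj y ey h4).symm .nil), by simp⟩
  haveI : Nonempty {x : Perm (Fin n) // IsConj t x} := ⟨⟨t, IsConj.refl t⟩⟩
  have hconn : Γ.Connected := ⟨fun x y => (htwo x y).choose.reachable⟩
  refine ⟨hconn, le_antisymm ?_ ?_⟩
  · obtain ⟨u, v, huv⟩ := Γ.exists_dist_eq_diam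
    rw [← huv]
    obtain ⟨w, hw⟩ := htwo u v
    exact (SimpleGraph.dist_le w).trans hw
  · have ht1 : t ≠ 1 := fun e => by rw [e, orderOf_one] at ht; omega
    obtain ⟨y, h1, h2, h3, h4⟩ := exists_commuting hn hIt ht1
    let a : {x : Perm (Fin n) // IsConj t x} := ⟨t, IsConj.refl t⟩
    let b : {x : Perm (Fin n) // IsConj t x} := ⟨y, isConj_of_card hIt h1 h2.symm⟩
    have hne : a ≠ b := fun e => h3 (congrArg Subtype.val e).symm
    have hord : orderOf (t * y) = 2 := by
      refine orderOf_eq_prime ?_ fun e => h3 ?_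
      · rw [h4.mul_pow, sq, sq, show t * t = 1 from Equiv.ext hIt, show y * y = 1 from Equiv.ext h1,
          one_mul]
      · rw [← inv_eq_of_mul_eq_one_right e, hIt.inv_eq]
    have hnadj : ¬ Γ.Adj a b := by
      rw [hΓ, SimpleGraph.fromRel_adj]
      rintro ⟨-, h | h⟩
      · rw [show (a.1 * b.1) = t * y from rfl, hord] at h
        exact absurd h (by decide)
      · rw [show (b.1 * a.1) = y * t from rfl, ← h4.eq, hord] at h
        exact absurd h (by decide)
    have hne_top : Γ.ediam ≠ ⊤ := SimpleGraph.connected_iff_ediam_ne_top.mp hconn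
    refine le_trans ?_ (SimpleGraph.dist_le_diam hne_top (u := a) (v := b))
    have h0 : Γ.dist a b ≠ 0 := fun e => hne ((hconn.dist_eq_zero_iff).mp e)
    have h1' : Γ.dist a b ≠ 1 := fun e => hnadj (SimpleGraph.dist_eq_one_iff_adj.mp e)
    omega

end Cfsg.Agent.OddProd
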