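import Cfsg.Agent.Lib.OddProd.Main

/-!
# The induction
-/

set_option autoImplicit false

namespace Cfsg.Agent.OddProd

open Equiv

variable {ι : Type*} [Fintype ι] [DecidableEq ι]

/-- An end of a component: a path with two or four vertices, both ends moved only by `x`. -/
def End (x y : Perm ι) (a : ι) : Prop :=
  (∃ b, x a = b ∧ a ≠ b ∧ y a = a ∧ y b = b) ∨
    ∃ b c d, x a = b ∧ a ≠ b ∧ y a = a ∧ y b = c ∧ b ≠ c ∧ x c = d ∧ c ≠ d ∧ y d = d

lemma no_square_of_rest {x y x₂ y₂ : Perm ι} {k : ℕ} {v : Fin k ↪ ι}
    (hsq : ¬ ∃ a b c d, Sq x y a b c d)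
    (hout : ∀ w, w ∉ Set.range v → x₂ w = x w ∧ y₂ w = y w)
    (hfix : ∀ i, x₂ (v i) = v i ∧ y₂ (v i) = v i) : ¬ IsSq x₂ y₂ := by
  rintro ⟨-, a, b, c, d, h1, h2, h3, h4, n1, n2, n3, n4, n5, n6⟩
  have key : ∀ w, x₂ w ≠ w ∨ y₂ w ≠ w → w ∉ Set.range v := by
    rintro w hw ⟨i, rfl⟩
    rcases hw with hw | hw
    · exact hw (hfix i).1
    · exact hw (hfix i).2
  have ha := key a (.inl (h1 ▸ n1.symm))
  have hc := key c (.inl (h2 ▸ n6.symm))
  have hb := key b (.inr (h3 ▸ n4.symm))
  have hd := key d (.inr (h4 ▸ n3))
  refine hsq ⟨a, b, c, d, ?_, ?_, ?_, ?_, n1, n2, n3, n4, n5, n6⟩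
  · rw [← (hout a ha).1, h1]
  · rw [← (hout c hc).1, h2]
  · rw [← (hout b hb).2, h3]
  · rw [← (hout d hd).2, h4]

lemma endpoint {x y : Perm ι} (hx : Invol x) (hy : Invol y)
    (hc : x.support.card = y.support.card)
    (hsq : ¬ ∃ a b c d, Sq x y a b c d) (hsh : ∀ a, x a = y a → x a = a)
    (hf2 : ¬ Five y x)
    (ih : ∀ x' y' : Perm ι, Invol x' → Invol y' → x'.support.card = y'.support.card →
      x'.support.card < x.support.card → IsSq x' y' ∨ Good x' y')
    {a : ι} (hxa : x a ≠ a) (hya : y a = a) : Good x y ∨ End x y a := by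
  have rest : ∀ (k : ℕ) (v : Fin k ↪ ι) (x₂ y₂ : Perm ι), Invol x₂ → Invol y₂ →
      x₂.support.card = y₂.support.card → x₂.support.card < x.support.card →
      (∀ w, w ∉ Set.range v → x₂ w = x w ∧ y₂ w = y w) →
      (∀ i, x₂ (v i) = v i ∧ y₂ (v i) = v i) → Good x₂ y₂ :=
    fun k v x₂ y₂ h1 h2 h3 h4 h5 h6 =>
      (ih x₂ y₂ h1 h2 h3 h4).resolve_left (no_square_of_rest hsq h5 h6)
  set b := x a with hb
  have nab : a ≠ b := Ne.symm hxa
  have hxb : x b = a := by rw [hb, hx]
  by_cases hyb : y b = b
  · exact .inr (.inl ⟨b, rfl, nab, hya, hyb⟩)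
  set c := y b with hcd
  have nbc : b ≠ c := Ne.symm hyb
  have nac : a ≠ c := fun e => nab (y.injective (hya.trans (e.trans hcd)))
  have hyc : y c = b := by rw [hcd, hy]
  by_cases hxc : x c = c
  · left
    have hinj : Function.Injective ![a, b, c] := List.nodup_ofFn.mp (by
      simp only [List.ofFn_succ, List.ofFn_zero, List.nodup_cons, List.mem_cons, List.not_mem_nil,
        or_false, not_or, not_false_eq_true, List.nodup_nil, and_true, Matrix.cons_val_zero,
        Matrix.cons_val_succ]
      exact ⟨⟨nab, nac⟩, nbc⟩)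
    refine Good.component hx hy hc ⟨_, hinj⟩ _ _ _ cert_P3 (fun i => ?_) (fun i => ?_) (rest _ _)
    · fin_cases i
      all_goals first | exact hb.symm | exact hxb | exact hxc
    · fin_cases i
      all_goals first | exact hya | exact hcd.symm | exact hyc
  set d := x c with hdd
  have ncd : c ≠ d := Ne.symm hxc
  have hxd : x d = c := by rw [hdd, hx]
  have nad : a ≠ d := fun e => nbc (by rw [hb, e, hxd])
  have nbd : b ≠ d := fun e => nac (by rw [← hxb, e, hxd])
  by_cases hyd : y d = d
  · exact .inr (.inr ⟨b, c, d, rfl, nab, hya, rfl, nbc, rfl, ncd, hyd⟩)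
  set e := y d with hee
  have nde : d ≠ e := Ne.symm hyd
  have hye : y e = d := by rw [hee, hy]
  have nae : a ≠ e := fun h => nad (by rw [← hya, h, hye])
  have nbe : b ≠ e := fun h => ncd (by rw [hcd, h, hye])
  have nce : c ≠ e := fun h => nbd (by rw [← hyc, h, hye])
  left
  by_cases hxe : x e = e
  · have hinj : Function.Injective ![a, b, c, d, e] := List.nodup_ofFn.mp (by
      simp only [List.ofFn_succ, List.ofFn_zero, List.nodup_cons, List.mem_cons, List.not_mem_nil,
        or_false, not_or, not_false_eq_true, List.nodup_nil, and_true, Matrix.cons_val_zero,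
        Matrix.cons_val_succ]
      exact ⟨⟨nab, nac, nad, nae⟩, ⟨nbc, nbd, nbe⟩, ⟨ncd, nce⟩, nde⟩)
    refine Good.component hx hy hc ⟨_, hinj⟩ _ _ _ cert_P5 (fun i => ?_) (fun i => ?_) (rest _ _)
    · fin_cases i
      all_goals first | exact hb.symm | exact hxb | exact hdd.symm | exact hxd | exact hxe
    · fin_cases i
      all_goals first | exact hya | exact hcd.symm | exact hyc | exact hee.symm | exact hye
  · refine absurd ⟨b, c, hcd.symm, nbc, ?_, hxc, ?_, ?_⟩ hf2
    · rw [hxb]; exact nab
    · rw [← hdd]; exact hyd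
    · rw [← hdd]; exact hxe

/-- Key result: away from a single square there is a common partner. -/
theorem isSq_or_good : ∀ (n : ℕ) (x y : Perm ι), x.support.card = n → Invol x → Invol y →
    x.support.card = y.support.card → IsSq x y ∨ Good x y := by
  intro n
  induction n using Nat.strong_induction_on with
  | _ n IH =>
    intro x y hn hx hy hc
    have ih : ∀ x' y' : Perm ι, Invol x' → Invol y' → x'.support.card = y'.support.card →
        x'.support.card < x.support.card → IsSq x' y' ∨ Good x' y' :=
      fun x' y' h1 h2 h3 h4 => IH _ (hn ▸ h4) x' y' rfl h1 h2 h3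
    by_cases hx1 : x.support = ∅
    · right
      have hy1 : y.support = ∅ := Finset.card_eq_zero.mp (by rw [← hc, hx1, Finset.card_empty])
      refine ⟨1, fun _ => rfl, by simp [hx1], by simp, ?_, ?_⟩
      · simp [Perm.support_eq_empty_iff.mp hx1]
      · simp [Perm.support_eq_empty_iff.mp hy1]
    by_cases hsq : ∃ a b c d, Sq x y a b c d
    · obtain ⟨a, b, c, d, hS⟩ := hsq
      have hS' := hS
      obtain ⟨h1, h2, h3, h4, n1, n2, n3, n4, n5, n6⟩ := hS'
      by_cases h4x : x.support.card = 4
      · exact .inl ⟨h4x, a, b, c, d, hS⟩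
      right
      obtain ⟨i1, s1, c1, f1⟩ := cut_spec hx h1 n1
      have x1c : (swap a b * x) c = d := by rw [f1 c n2.symm n4.symm, h2]
      obtain ⟨i2, s2, c2, f2⟩ := cut_spec i1 x1c n6
      obtain ⟨j1, t1, e1, g1⟩ := cut_spec hy h3 n4
      have y1d : (swap b c * y) d = a := by rw [g1 d n5.symm n6.symm, h4]
      obtain ⟨j2, t2, e2, g2⟩ := cut_spec j1 y1d n3.symm
      set x' := swap c d * (swap a b * x) with hx'
      set y' := swap d a * (swap b c * y) with hy'
      have hout : ∀ w, w ∉ ({a, b, c, d} : Finset ι) → x' w = x w ∧ y' w = y w := by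
        intro w hw
        simp only [Finset.mem_insert, Finset.mem_singleton, not_or] at hw
        exact ⟨by rw [f2 w (by tauto) (by tauto), f1 w (by tauto) (by tauto)],
          by rw [g2 w (by tauto) (by tauto), g1 w (by tauto) (by tauto)]⟩
      have hfix : ∀ w ∈ ({a, b, c, d} : Finset ι), x' w = w ∧ y' w = w := by
        intro w hw
        simp only [Finset.mem_insert, Finset.mem_singleton] at hw
        constructor <;> refine Perm.notMem_support.mp ?_
        · rw [s2, s1]
          simp only [Finset.mem_sdiff, Finset.mem_insert, Finset.mem_singleton]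
          tauto
        · rw [t2, t1]
          simp only [Finset.mem_sdiff, Finset.mem_insert, Finset.mem_singleton]
          tauto
      rcases ih x' y' i2 j2 (by omega) (by omega) with ⟨h4', a', b', c', d', hS'⟩ | hG
      · obtain ⟨p1, p2, p3, p4, m1, m2, m3, m4, m5, m6⟩ := hS'
        have key : ∀ w, x' w ≠ w ∨ y' w ≠ w → w ∉ ({a, b, c, d} : Finset ι) := by
          intro w hw hmem
          rcases hw with hw | hw
          · exact hw (hfix w hmem).1
          · exact hw (hfix w hmem).2
        have ka := key a' (.inl (p1 ▸ m1.symm))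
        have kc := key c' (.inl (p2 ▸ m6.symm))
        have kb := key b' (.inr (p3 ▸ m4.symm))
        have kd := key d' (.inr (p4 ▸ m3))
        have q1 : x a' = b' := by rw [← (hout a' ka).1, p1]
        have q2 : x c' = d' := by rw [← (hout c' kc).1, p2]
        have q3 : y b' = c' := by rw [← (hout b' kb).2, p3]
        have q4 : y d' = a' := by rw [← (hout d' kd).2, p4]
        simp only [Finset.mem_insert, Finset.mem_singleton, not_or] at ka kb kc kd
        have hnodup : List.Nodup [a, b, c, d, a', b', c', d'] := by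
          simp only [List.nodup_cons, List.mem_cons, List.not_mem_nil, or_false, not_or,
            not_false_eq_true, List.nodup_nil, and_true]
          exact ⟨⟨n1, n2, n3, Ne.symm ka.1, Ne.symm kb.1, Ne.symm kc.1, Ne.symm kd.1⟩,
            ⟨n4, n5, Ne.symm ka.2.1, Ne.symm kb.2.1, Ne.symm kc.2.1, Ne.symm kd.2.1⟩,
            ⟨n6, Ne.symm ka.2.2.1, Ne.symm kb.2.2.1, Ne.symm kc.2.2.1, Ne.symm kd.2.2.1⟩,
            ⟨Ne.symm ka.2.2.2, Ne.symm kb.2.2.2, Ne.symm kc.2.2.2, Ne.symm kd.2.2.2⟩,
            ⟨m1, m2, m3⟩, ⟨m4, m5⟩, m6⟩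
        have hinj : Function.Injective ![a, b, c, d, a', b', c', d'] :=
          List.nodup_ofFn.mp (by simpa using hnodup)
        have xb : x b = a := by rw [← h1, hx]
        have xd : x d = c := by rw [← h2, hx]
        have yc : y c = b := by rw [← h3, hy]
        have ya : y a = d := by rw [← h4, hy]
        have xb' : x b' = a' := by rw [← q1, hx]
        have xd' : x d' = c' := by rw [← q2, hx]
        have yc' : y c' = b' := by rw [← q3, hy]
        have ya' : y a' = d' := by rw [← q4, hy]
        refine Good.component hx hy hc ⟨_, hinj⟩ _ _ _ cert_C4C4 (fun i => ?_) (fun i => ?_) ?_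
        · fin_cases i
          all_goals first
            | exact h1 | exact xb | exact h2 | exact xd | exact q1 | exact xb' | exact q2
            | exact xd'
        · fin_cases i
          all_goals first
            | exact h3 | exact yc | exact h4 | exact ya | exact q3 | exact yc' | exact q4
            | exact ya'
        · intro x₂ y₂ hx₂ hy₂ hc₂ hlt hout₂ hfix₂
          have h8 : x.support.card ≤ 8 := by omega
          have hx₂e : x₂.support = ∅ := by
            by_contra hne
            obtain ⟨v, hv⟩ := Finset.nonempty_iff_ne_empty.mpr hne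
            have hvr : v ∉ Set.range ![a, b, c, d, a', b', c', d'] := by
              rintro ⟨i, rfl⟩
              exact Perm.mem_support.mp hv (hfix₂ i).1
            have hsub : insert v (Finset.univ.map ⟨_, hinj⟩) ⊆ x.support := by
              intro w hw
              rcases Finset.mem_insert.mp hw with rfl | hw
              · rw [Perm.mem_support, ← (hout₂ w hvr).1]
                exact Perm.mem_support.mp hv
              · obtain ⟨i, -, rfl⟩ := Finset.mem_map.mp hw
                rw [Perm.mem_support]
                fin_cases i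
                all_goals first
                  | (show x a ≠ a; rw [h1]; exact n1.symm)
                  | (show x b ≠ b; rw [xb]; exact n1)
                  | (show x c ≠ c; rw [h2]; exact n6.symm)
                  | (show x d ≠ d; rw [xd]; exact n6)
                  | (show x a' ≠ a'; rw [q1]; exact m1.symm)
                  | (show x b' ≠ b'; rw [xb']; exact m1)
                  | (show x c' ≠ c'; rw [q2]; exact m6.symm)
                  | (show x d' ≠ d'; rw [xd']; exact m6)
            have := Finset.card_le_card hsub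
            rw [Finset.card_insert_of_notMem, Finset.card_map, Finset.card_univ,
              Fintype.card_fin] at this
            · omega
            · intro hmem
              obtain ⟨i, -, hi⟩ := Finset.mem_map.mp hmem
              exact hvr ⟨i, hi⟩
          have hy₂e : y₂.support = ∅ :=
            Finset.card_eq_zero.mp (by rw [← hc₂, hx₂e, Finset.card_empty])
          refine ⟨1, fun _ => rfl, by simp [hx₂e], by simp, ?_, ?_⟩
          · simp [Perm.support_eq_empty_iff.mp hx₂e]
          · simp [Perm.support_eq_empty_iff.mp hy₂e]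
      · exact insert_square hx hy hS (fun w hw => (hout w hw).1) (fun w hw => (hout w hw).2)
          hfix (by omega) hG (Finset.card_pos.mp (by
            by_contra h0
            omega))
    right
    have rest : ∀ (k : ℕ) (v : Fin k ↪ ι) (x₂ y₂ : Perm ι), Invol x₂ → Invol y₂ →
        x₂.support.card = y₂.support.card → x₂.support.card < x.support.card →
        (∀ w, w ∉ Set.range v → x₂ w = x w ∧ y₂ w = y w) →
        (∀ i, x₂ (v i) = v i ∧ y₂ (v i) = v i) → Good x₂ y₂ :=
      fun k v x₂ y₂ h1 h2 h3 h4 h5 h6 =>
        (ih x₂ y₂ h1 h2 h3 h4).resolve_left (no_square_of_rest hsq h5 h6)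
    by_cases hsh : ∃ a, x a = y a ∧ x a ≠ a
    · obtain ⟨a, hxy, hne⟩ := hsh
      have hinj : Function.Injective ![a, x a] := List.nodup_ofFn.mp (by
        simp only [List.ofFn_succ, List.ofFn_zero, List.nodup_cons, List.mem_cons, List.not_mem_nil,
          or_false, not_or, not_false_eq_true, List.nodup_nil, and_true, Matrix.cons_val_zero,
          Matrix.cons_val_succ]
        exact Ne.symm hne)
      refine Good.component hx hy hc ⟨_, hinj⟩ _ _ _ cert_C2 (fun i => ?_) (fun i => ?_) (rest _ _)
      · fin_cases i
        all_goals first | rfl | exact hx a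
      · fin_cases i
        all_goals first | exact hxy.symm | (show y (x a) = a; rw [hxy, hy])
    push Not at hsh
    have hsqs : ¬ ∃ a b c d, Sq y x a b c d := by
      rintro ⟨a, b, c, d, g1, g2, g3, g4, k1, k2, k3, k4, k5, k6⟩
      exact hsq ⟨b, c, d, a, g3, g4, g2, g1, k4, k5, k1.symm, k6, k2.symm, k3.symm⟩
    have hshs : ∀ a, y a = x a → y a = a := fun a e => e.trans (hsh a e.symm)
    have ihs : ∀ x' y' : Perm ι, Invol x' → Invol y' → x'.support.card = y'.support.card →
        x'.support.card < y.support.card → IsSq x' y' ∨ Good x' y' :=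
      fun x' y' h1 h2 h3 h4 => ih x' y' h1 h2 h3 (hc ▸ h4)
    by_cases hf : Five x y
    · exact contract hx hy hc hf hsq hsh ih
    by_cases hf' : Five y x
    · exact Good.symm hc.symm (contract hy hx hc.symm hf' hsqs hshs ihs)
    -- an endpoint exists
    by_cases hsub : x.support ⊆ y.support
    · exfalso
      have heq := Finset.eq_of_subset_of_card_le hsub hc.ge
      obtain ⟨a, ha⟩ := Finset.nonempty_iff_ne_empty.mpr hx1
      apply hf
      have e1 : ∀ v, v ∈ x.support → x v ∈ x.support := fun v h => Perm.apply_mem_support.mpr h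
      have e2 : ∀ v, v ∈ x.support → y v ∈ x.support := fun v h => by
        rw [heq] at h ⊢; exact Perm.apply_mem_support.mpr h
      have hb := e1 a ha
      have hc' := e2 _ hb
      have hd := e1 _ hc'
      refine ⟨a, x a, rfl, Ne.symm (Perm.mem_support.mp ha), ?_, ?_, Perm.mem_support.mp hc', ?_⟩
      · exact Perm.mem_support.mp (heq ▸ ha)
      · exact Perm.mem_support.mp (heq ▸ hb)
      · exact Perm.mem_support.mp (heq ▸ hd)
    obtain ⟨a, hax, hay⟩ := Finset.not_subset.mp hsub
    have hsub' : ¬ y.support ⊆ x.support := fun h =>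
      hay (Finset.eq_of_subset_of_card_le h hc.le ▸ hax)
    obtain ⟨a', hay', hax'⟩ := Finset.not_subset.mp hsub'
    rw [Perm.mem_support] at hax hay'
    rw [Perm.notMem_support] at hay hax'
    rcases endpoint hx hy hc hsq hsh hf' ih hax hay with hG | hE
    · exact hG
    rcases endpoint hy hx hc.symm hsqs hshs hf ihs hay' hax' with hG | hE'
    · exact hG.symm hc.symm
    rcases hE with ⟨b, e1, n1, e2, e3⟩ | ⟨b, c, d, e1, n1, e2, e3, n2, e4, n3, e5⟩ <;>
      rcases hE' with ⟨b', e1', n1', e2', e3'⟩ | ⟨b', c', d', e1', n1', e2', e3', n2', e4', n3', e5'⟩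
    · have xb : x b = a := by rw [← e1, hx]
      have yb' : y b' = a' := by rw [← e1', hy]
      have k1 : a ≠ a' := fun h => hax (by rw [h, e2'])
      have k2 : a ≠ b' := fun h => hax (by rw [h, e3'])
      have k3 : b ≠ a' := fun h => n1 (by rw [← xb, h, e2'])
      have k4 : b ≠ b' := fun h => n1 (by rw [← xb, h, e3'])
      have hinj : Function.Injective ![a, b, a', b'] := List.nodup_ofFn.mp (by
        simp only [List.ofFn_succ, List.ofFn_zero, List.nodup_cons, List.mem_cons, List.not_mem_nil,
          or_false, not_or, not_false_eq_true, List.nodup_nil, and_true, Matrix.cons_val_zero,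
          Matrix.cons_val_succ]
        exact ⟨⟨n1, k1, k2⟩, ⟨k3, k4⟩, n1'⟩)
      refine Good.component hx hy hc ⟨_, hinj⟩ _ _ _ cert_P2Q2 (fun i => ?_) (fun i => ?_) (rest _ _)
      · fin_cases i
        all_goals first | exact e1 | exact xb | exact e2' | exact e3'
      · fin_cases i
        all_goals first | exact e2 | exact e3 | exact e1' | exact yb'
    · have xb : x b = a := by rw [← e1, hx]
      have yb' : y b' = a' := by rw [← e1', hy]
      have yd' : y d' = c' := by rw [← e4', hy]
      have xc' : x c' = b' := by rw [← e3', hx]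
      have n13 : a' ≠ c' := fun h => n2' (by rw [← xc', ← h, e2'])
      have n14 : a' ≠ d' := fun h => n2' (by rw [← e1', h, yd'])
      have n24 : b' ≠ d' := fun h => n2' (by rw [← e3', h, e5'])
      have k1 : a' ≠ a := fun h => hay' (by rw [h, e2])
      have k2 : a' ≠ b := fun h => hay' (by rw [h, e3])
      have k3 : b' ≠ a := fun h => n1' (by rw [← yb', h, e2])
      have k4 : b' ≠ b := fun h => n1' (by rw [← yb', h, e3])
      have k5 : c' ≠ a := fun h => n3' (by rw [← e4', h, e2])
      have k6 : c' ≠ b := fun h => n3' (by rw [← e4', h, e3])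
      have k7 : d' ≠ a := fun h => n3' (by rw [← yd', h, e2])
      have k8 : d' ≠ b := fun h => n3' (by rw [← yd', h, e3])
      have hinj : Function.Injective ![a', b', c', d', a, b] := List.nodup_ofFn.mp (by
        simp only [List.ofFn_succ, List.ofFn_zero, List.nodup_cons, List.mem_cons, List.not_mem_nil,
          or_false, not_or, not_false_eq_true, List.nodup_nil, and_true, Matrix.cons_val_zero,
          Matrix.cons_val_succ]
        exact ⟨⟨n1', n13, n14, k1, k2⟩, ⟨n2', n24, k3, k4⟩, ⟨n3', k5, k6⟩, ⟨k7, k8⟩, n1⟩)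
      refine Good.symm hc.symm (Good.component hy hx hc.symm ⟨_, hinj⟩ _ _ _ cert_P4Q2
        (fun i => ?_) (fun i => ?_) fun x₂ y₂ h1 h2 h3 h4 h5 h6 =>
          (ihs x₂ y₂ h1 h2 h3 h4).resolve_left (no_square_of_rest hsqs h5 h6))
      · fin_cases i
        all_goals first | exact e1' | exact yb' | exact e4' | exact yd' | exact e2 | exact e3
      · fin_cases i
        all_goals first | exact e2' | exact e3' | exact xc' | exact e5' | exact e1 | exact xb
    · have xb : x b = a := by rw [← e1, hx]
      have xd : x d = c := by rw [← e4, hx]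
      have yc : y c = b := by rw [← e3, hy]
      have yb' : y b' = a' := by rw [← e1', hy]
      have n13 : a ≠ c := fun h => n2 (by rw [← yc, ← h, e2])
      have n14 : a ≠ d := fun h => n2 (by rw [← e1, h, xd])
      have n24 : b ≠ d := fun h => n2 (by rw [← e3, h, e5])
      have k1 : a ≠ a' := fun h => hax (by rw [h, e2'])
      have k2 : a ≠ b' := fun h => hax (by rw [h, e3'])
      have k3 : b ≠ a' := fun h => n1 (by rw [← xb, h, e2'])
      have k4 : b ≠ b' := fun h => n1 (by rw [← xb, h, e3'])
      have k5 : c ≠ a' := fun h => n3 (by rw [← e4, h, e2'])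
      have k6 : c ≠ b' := fun h => n3 (by rw [← e4, h, e3'])
      have k7 : d ≠ a' := fun h => n3 (by rw [← xd, h, e2'])
      have k8 : d ≠ b' := fun h => n3 (by rw [← xd, h, e3'])
      have hinj : Function.Injective ![a, b, c, d, a', b'] := List.nodup_ofFn.mp (by
        simp only [List.ofFn_succ, List.ofFn_zero, List.nodup_cons, List.mem_cons, List.not_mem_nil,
          or_false, not_or, not_false_eq_true, List.nodup_nil, and_true, Matrix.cons_val_zero,
          Matrix.cons_val_succ]
        exact ⟨⟨n1, n13, n14, k1, k2⟩, ⟨n2, n24, k3, k4⟩, ⟨n3, k5, k6⟩, ⟨k7, k8⟩, n1'⟩)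
      refine Good.component hx hy hc ⟨_, hinj⟩ _ _ _ cert_P4Q2 (fun i => ?_) (fun i => ?_) (rest _ _)
      · fin_cases i
        all_goals first | exact e1 | exact xb | exact e4 | exact xd | exact e2' | exact e3'
      · fin_cases i
        all_goals first | exact e2 | exact e3 | exact yc | exact e5 | exact e1' | exact yb'
    · have xb : x b = a := by rw [← e1, hx]
      have xd : x d = c := by rw [← e4, hx]
      have yc : y c = b := by rw [← e3, hy]
      have yb' : y b' = a' := by rw [← e1', hy]
      have yd' : y d' = c' := by rw [← e4', hy]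
      have xc' : x c' = b' := by rw [← e3', hx]
      have n13 : a ≠ c := fun h => n2 (by rw [← yc, ← h, e2])
      have n14 : a ≠ d := fun h => n2 (by rw [← e1, h, xd])
      have n24 : b ≠ d := fun h => n2 (by rw [← e3, h, e5])
      have m13 : a' ≠ c' := fun h => n2' (by rw [← xc', ← h, e2'])
      have m14 : a' ≠ d' := fun h => n2' (by rw [← e1', h, yd'])
      have m24 : b' ≠ d' := fun h => n2' (by rw [← e3', h, e5'])
      have q11 : a ≠ a' := fun h => hax (by rw [h, e2'])
      have q14 : a ≠ d' := fun h => hax (by rw [h, e5'])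
      have q12 : a ≠ b' := fun h => n1' (by rw [← yb', ← h, e2])
      have q13 : a ≠ c' := fun h => n3' (by rw [← e4', ← h, e2])
      have q21 : b ≠ a' := fun h => n1 (by rw [← xb, h, e2'])
      have q24 : b ≠ d' := fun h => n1 (by rw [← xb, h, e5'])
      have q31 : c ≠ a' := fun h => n3 (by rw [← e4, h, e2'])
      have q34 : c ≠ d' := fun h => n3 (by rw [← e4, h, e5'])
      have q41 : d ≠ a' := fun h => n3 (by rw [← xd, h, e2'])
      have q44 : d ≠ d' := fun h => n3 (by rw [← xd, h, e5'])
      have q42 : d ≠ b' := fun h => n1' (by rw [← yb', ← h, e5])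
      have q43 : d ≠ c' := fun h => n3' (by rw [← e4', ← h, e5])
      have q22 : b ≠ b' := fun h => q31 (by rw [← e3, h, yb'])
      have q23 : b ≠ c' := fun h => q34 (by rw [← e3, h, e4'])
      have q32 : c ≠ b' := fun h => q43 (by rw [← e4, h, e3'])
      have q33 : c ≠ c' := fun h => q42 (by rw [← e4, h, xc'])
      have hinj : Function.Injective ![a, b, c, d, a', b', c', d'] := List.nodup_ofFn.mp (by
        simp only [List.ofFn_succ, List.ofFn_zero, List.nodup_cons, List.mem_cons, List.not_mem_nil,
          or_false, not_or, not_false_eq_true, List.nodup_nil, and_true, Matrix.cons_val_zero,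
          Matrix.cons_val_succ]
        exact ⟨⟨n1, n13, n14, q11, q12, q13, q14⟩, ⟨n2, n24, q21, q22, q23, q24⟩, ⟨n3, q31, q32, q33, q34⟩, ⟨q41, q42, q43, q44⟩, ⟨n1', m13, m14⟩, ⟨n2', m24⟩, n3'⟩)
      refine Good.component hx hy hc ⟨_, hinj⟩ _ _ _ cert_P4Q4 (fun i => ?_) (fun i => ?_) (rest _ _)
      · fin_cases i
        all_goals first
          | exact e1 | exact xb | exact e4 | exact xd | exact e2' | exact e3' | exact xc'
          | exact e5'
      · fin_cases i
        all_goals first
          | exact e2 | exact e3 | exact yc | exact e5 | exact e1' | exact yb' | exact e4'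
          | exact yd'

end Cfsg.Agent.OddProd
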