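import Cfsg.Agent.Lib.OddProd.Basic

/-!
# Two involutions of the same type have a common partner with odd products
-/

set_option autoImplicit false

namespace Cfsg.Agent.OddProd

open Equiv

variable {ι : Type*} [Fintype ι] [DecidableEq ι]

/-- A square in the union of the two matchings. -/
def Sq (x y : Perm ι) (a b c d : ι) : Prop :=
  x a = b ∧ x c = d ∧ y b = c ∧ y d = a ∧ a ≠ b ∧ a ≠ c ∧ a ≠ d ∧ b ≠ c ∧ b ≠ d ∧ c ≠ d

/-- The pair is a single square. -/
def IsSq (x y : Perm ι) : Prop := x.support.card = 4 ∧ ∃ a b c d, Sq x y a b c d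

lemma IsSq.symm {x y : Perm ι} (hx : Invol x) (hy : Invol y)
    (hc : x.support.card = y.support.card) (h : IsSq x y) : IsSq y x := by
  obtain ⟨h4, a, b, c, d, h1, h2, h3, h5, n1, n2, n3, n4, n5, n6⟩ := h
  refine ⟨hc ▸ h4, b, c, d, a, h3, h5, h2, h1, n4, n5, n1.symm, n6, n2.symm, n3.symm⟩

lemma emb4 {a b c d : ι} (n1 : a ≠ b) (n2 : a ≠ c) (n3 : a ≠ d) (n4 : b ≠ c) (n5 : b ≠ d)
    (n6 : c ≠ d) : Function.Injective ![a, b, c, d] := by
  intro i j hij
  fin_cases i <;> fin_cases j <;> simp_all [eq_comm]

lemma cert_C2 : Cert (swap (0 : Fin 2) 1) (swap (0 : Fin 2) 1) (swap (0 : Fin 2) 1) 1 1 := by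
  unfold Cert; decide

lemma cert_P3 : Cert (swap (0 : Fin 3) 1) (swap (1 : Fin 3) 2) (swap (0 : Fin 3) 1) 3 3 := by
  unfold Cert; decide

lemma cert_P5 : Cert (swap (0 : Fin 5) 1 * swap 2 3) (swap (1 : Fin 5) 2 * swap 3 4)
    (swap (0 : Fin 5) 1 * swap 2 3) 15 15 := by
  unfold Cert; decide +kernel

lemma cert_P2Q2 : Cert (swap (0 : Fin 4) 1) (swap (2 : Fin 4) 3) (swap (0 : Fin 4) 2) 3 3 := by
  unfold Cert; decide

lemma cert_P4Q2 : Cert (swap (0 : Fin 6) 1 * swap 2 3) (swap (1 : Fin 6) 2 * swap 4 5)
    (swap (0 : Fin 6) 1 * swap 2 4) 15 15 := by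
  unfold Cert; decide +kernel

lemma cert_P4Q4 : Cert (swap (0 : Fin 8) 1 * swap 2 3 * swap 5 6)
    (swap (1 : Fin 8) 2 * swap 4 5 * swap 6 7) (swap (0 : Fin 8) 1 * swap 2 4 * swap 5 6) 105 105 := by
  unfold Cert; decide +kernel

lemma cert_C8 : Cert (swap (0 : Fin 8) 1 * swap 2 3 * swap 4 5 * swap 6 7)
    (swap (1 : Fin 8) 2 * swap 3 4 * swap 5 6 * swap 7 0)
    (swap (0 : Fin 8) 1 * swap 2 4 * swap 3 7 * swap 5 6) 105 105 := by
  unfold Cert; decide +kernel

lemma cert_C4C4 : Cert (swap (0 : Fin 8) 1 * swap 2 3 * swap 4 5 * swap 6 7)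
    (swap (1 : Fin 8) 2 * swap 3 0 * swap 5 6 * swap 7 4)
    (swap (0 : Fin 8) 1 * swap 2 4 * swap 3 7 * swap 5 6) 105 105 := by
  unfold Cert; decide +kernel


/-- A square can be inserted into any transposition of a partner. -/
lemma insert_square {x y : Perm ι} (hx : Invol x) (hy : Invol y) {a b c d : ι}
    (hs : Sq x y a b c d) {x' y' : Perm ι}
    (hx' : ∀ w, w ∉ ({a, b, c, d} : Finset ι) → x' w = x w)
    (hy' : ∀ w, w ∉ ({a, b, c, d} : Finset ι) → y' w = y w)
    (hfix : ∀ w ∈ ({a, b, c, d} : Finset ι), x' w = w ∧ y' w = w)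
    (hcx : x'.support.card + 4 = x.support.card)
    (h : Good x' y') (hne : x'.support.Nonempty) : Good x y := by
  obtain ⟨h1, h2, h3, h4, n1, n2, n3, n4, n5, n6⟩ := hs
  obtain ⟨z', hz', hcz, hsub, ho1, ho2⟩ := h
  obtain ⟨u, hu⟩ : z'.support.Nonempty := by
    rw [← Finset.card_pos, hcz]; exact hne.card_pos
  set w := z' u with hw
  have huw : u ≠ w := Ne.symm (Perm.mem_support.mp hu)
  have hzfix : ∀ v ∈ ({a, b, c, d} : Finset ι), z' v = v := by
    intro v hv
    by_contra hne'
    rcases Finset.mem_union.mp (hsub (Perm.mem_support.mpr hne')) with h' | h'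
    · exact Perm.mem_support.mp h' (hfix v hv).1
    · exact Perm.mem_support.mp h' (hfix v hv).2
  have huA : u ∉ ({a, b, c, d} : Finset ι) := fun hh => Perm.mem_support.mp hu (hzfix u hh)
  have hwA : w ∉ ({a, b, c, d} : Finset ι) := fun hh => by
    have := hzfix w hh
    rw [hw, hz'] at this
    exact huw this
  simp only [Finset.mem_insert, Finset.mem_singleton, not_or] at huA hwA
  obtain ⟨i0, s0, c0, f0⟩ := cut_spec hz' hw.symm huw
  set z0 := swap u w * z' with hz0
  have g0 : ∀ v ∈ ({a, b, c, d} : Finset ι), z0 v = v := by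
    intro v hv
    simp only [Finset.mem_insert, Finset.mem_singleton] at hv
    have hvu : v ≠ u := by rintro rfl; tauto
    have hvw : v ≠ w := by intro e; subst e; tauto
    rw [f0 v hvu hvw, hzfix v (by simpa using hv)]
  have z0u : z0 u = u := by
    rw [hz0, Perm.mul_apply, ← hw, swap_apply_right]
  have z0w : z0 w = w := by
    rw [hz0, Perm.mul_apply, hw, hz', swap_apply_left]
  have ga : z0 a = a := g0 a (by simp)
  have gb : z0 b = b := g0 b (by simp)
  have gc : z0 c = c := g0 c (by simp)
  have gd : z0 d = d := g0 d (by simp)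
  obtain ⟨i1, s1, c1, za1, zc1, f1⟩ := add_spec i0 ga gc n2
  set z1 := swap a c * z0 with hz1
  have z1b : z1 b = b := by rw [f1 b n1.symm n4, gb]
  have z1u : z1 u = u := by rw [f1 u (by tauto) (by tauto), z0u]
  have z1d : z1 d = d := by rw [f1 d n3.symm n6.symm, gd]
  have z1w : z1 w = w := by rw [f1 w (by tauto) (by tauto), z0w]
  obtain ⟨i2, s2, c2, zb2, zu2, f2⟩ := add_spec i1 z1b z1u (by tauto)
  set z2 := swap b u * z1 with hz2
  have z2d : z2 d = d := by rw [f2 d n5.symm (by tauto), z1d]
  have z2w : z2 w = w := by rw [f2 w (by tauto) huw.symm, z1w]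
  obtain ⟨i3, s3, c3, zd3, zw3, f3⟩ := add_spec i2 z2d z2w (by tauto)
  set z := swap d w * z2 with hz
  have Za : z a = c := by rw [f3 a n3 (by tauto), f2 a n1 (by tauto), za1]
  have Zc : z c = a := by rw [f3 c n6 (by tauto), f2 c n4.symm (by tauto), zc1]
  have Zb : z b = u := by rw [f3 b n5 (by tauto), zb2]
  have Zu : z u = b := by rw [f3 u (by tauto) huw, zu2]
  have Zd : z d = w := zd3
  have Zw : z w = d := zw3
  have Zo : ∀ s, s ∉ ({a, b, c, d} : Finset ι) → s ≠ u → s ≠ w → z s = z' s := by
    intro s hs hsu hsw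
    simp only [Finset.mem_insert, Finset.mem_singleton, not_or] at hs
    rw [f3 s (by tauto) hsw, f2 s (by tauto) hsu, f1 s (by tauto) (by tauto), f0 s hsu hsw]
  have hxa : x b = a := by rw [← h1, hx]
  have hxd : x d = c := by rw [← h2, hx]
  have hyc : y c = b := by rw [← h3, hy]
  have hya : y a = d := by rw [← h4, hy]
  have hz'w : z' w = u := by rw [hw, hz']
  clear_value z
  refine ⟨z, i3, by omega, ?_, ?_, ?_⟩
  · intro v hv
    rw [Finset.mem_union, Perm.mem_support, Perm.mem_support]
    by_contra hcon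
    simp only [not_or, not_not] at hcon
    obtain ⟨e1, e2⟩ := hcon
    have hvA : v ∉ ({a, b, c, d} : Finset ι) := by
      simp only [Finset.mem_insert, Finset.mem_singleton, not_or]
      refine ⟨?_, ?_, ?_, ?_⟩ <;> rintro rfl
      · exact n1 (e1.symm.trans h1)
      · exact n1 (hxa.symm.trans e1)
      · exact n6 (e1.symm.trans h2)
      · exact n6 (hxd.symm.trans e1)
    have hv' : z' v = v := by
      by_contra hne'
      rcases Finset.mem_union.mp (hsub (Perm.mem_support.mpr hne')) with h' | h'
      · exact Perm.mem_support.mp h' (by rw [hx' v hvA, e1])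
      · exact Perm.mem_support.mp h' (by rw [hy' v hvA, e2])
    have hvu : v ≠ u := fun e => Perm.mem_support.mp hu (e ▸ hv')
    have hvw : v ≠ w := fun e => huw (hz'w ▸ (e ▸ hv'))
    exact Perm.mem_support.mp hv (by rw [Zo v hvA hvu hvw, hv'])
  · refine odd_of_lift ({a, b, c, d} : Finset ι) (fun v hv => ?_) ho1 ?_ ?_
    · rw [Perm.mul_apply, hzfix v hv, (hfix v hv).1]
    · intro s hs
      by_cases hsu : s = u
      · subst hsu
        exact ⟨3, by decide, by
          simp only [pow_succ, pow_zero, one_mul, Perm.mul_apply, Zu, hxa, Za, h2, Zd, hx' w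
            (by simp only [Finset.mem_insert, Finset.mem_singleton]; tauto), ← hw]⟩
      by_cases hsw : s = w
      · subst hsw
        exact ⟨3, by decide, by
          simp only [pow_succ, pow_zero, one_mul, Perm.mul_apply, Zw, hxd, Zc, h1, Zb, hz'w, hx' u
            (by simp only [Finset.mem_insert, Finset.mem_singleton]; tauto)]⟩
      refine ⟨1, odd_one, ?_⟩
      rw [pow_one, Perm.mul_apply, Perm.mul_apply, Zo s hs hsu hsw, hx']
      intro hmem
      have e := hzfix _ hmem
      rw [hz'] at e
      exact hs (e.symm ▸ hmem)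
    · intro v hv
      simp only [Finset.mem_insert, Finset.mem_singleton] at hv ⊢
      rcases hv with rfl | rfl | rfl | rfl
      · exact ⟨u, by tauto, 1, by rw [pow_one, Perm.mul_apply, Zu, hxa]⟩
      · exact ⟨w, by tauto, 2, by simp only [pow_succ, pow_zero, one_mul, Perm.mul_apply, Zw, hxd, Zc, h1]⟩
      · exact ⟨w, by tauto, 1, by rw [pow_one, Perm.mul_apply, Zw, hxd]⟩
      · exact ⟨u, by tauto, 2, by simp only [pow_succ, pow_zero, one_mul, Perm.mul_apply, Zu, hxa, Za, h2]⟩
  · refine odd_of_lift ({a, b, c, d} : Finset ι) (fun v hv => ?_) ho2 ?_ ?_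
    · rw [Perm.mul_apply, hzfix v hv, (hfix v hv).2]
    · intro s hs
      by_cases hsu : s = u
      · subst hsu
        exact ⟨3, by decide, by
          simp only [pow_succ, pow_zero, one_mul, Perm.mul_apply, Zu, h3, Zc, hya, Zd, hy' w
            (by simp only [Finset.mem_insert, Finset.mem_singleton]; tauto), ← hw]⟩
      by_cases hsw : s = w
      · subst hsw
        exact ⟨3, by decide, by
          simp only [pow_succ, pow_zero, one_mul, Perm.mul_apply, Zw, h4, Za, hyc, Zb, hz'w, hy' u
            (by simp only [Finset.mem_insert, Finset.mem_singleton]; tauto)]⟩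
      refine ⟨1, odd_one, ?_⟩
      rw [pow_one, Perm.mul_apply, Perm.mul_apply, Zo s hs hsu hsw, hy']
      intro hmem
      have e := hzfix _ hmem
      rw [hz'] at e
      exact hs (e.symm ▸ hmem)
    · intro v hv
      simp only [Finset.mem_insert, Finset.mem_singleton] at hv ⊢
      rcases hv with rfl | rfl | rfl | rfl
      · exact ⟨w, by tauto, 1, by rw [pow_one, Perm.mul_apply, Zw, h4]⟩
      · exact ⟨w, by tauto, 2, by simp only [pow_succ, pow_zero, one_mul, Perm.mul_apply, Zw, h4, Za, hyc]⟩
      · exact ⟨u, by tauto, 1, by rw [pow_one, Perm.mul_apply, Zu, h3]⟩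
      · exact ⟨u, by tauto, 2, by simp only [pow_succ, pow_zero, one_mul, Perm.mul_apply, Zu, h3, Zc, hya]⟩

/-- The five-edge pattern. -/
def Five (x y : Perm ι) : Prop :=
  ∃ a b : ι, x a = b ∧ a ≠ b ∧ y a ≠ a ∧ y b ≠ b ∧ x (y b) ≠ y b ∧ y (x (y b)) ≠ x (y b)

/-- Contracting five edges. -/
lemma contract {x y : Perm ι} (hx : Invol x) (hy : Invol y)
    (hc : x.support.card = y.support.card) (h5 : Five x y)
    (hsq : ¬ ∃ a b c d, Sq x y a b c d) (hsh : ∀ a, x a = y a → x a = a)
    (ih : ∀ x' y' : Perm ι, Invol x' → Invol y' → x'.support.card = y'.support.card →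
      x'.support.card < x.support.card → IsSq x' y' ∨ Good x' y') : Good x y := by
  obtain ⟨a, b, h1, nab, hpa, hcb, hdc, hqd⟩ := h5
  set p := y a with hp
  set c := y b with hcdef
  set d := x c with hddef
  set q := y d with hqdef
  have hxb : x b = a := by rw [← h1, hx]
  have hxd : x d = c := by rw [hddef, hx]
  have hyp : y p = a := by rw [hp, hy]
  have hyc : y c = b := by rw [hcdef, hy]
  have hyq : y q = d := by rw [hqdef, hy]
  have npb : p ≠ b := fun e => nab.symm (by
    have := hsh a (h1.trans e.symm)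
    rwa [h1] at this)
  have ncd : c ≠ d := Ne.symm hdc
  have nqd : q ≠ d := hqd
  have nqc : q ≠ c := fun e => ncd (by
    have := hsh d (hxd.trans e.symm)
    rwa [hxd] at this)
  have npc : p ≠ c := fun e => nab (y.injective (hp.symm.trans (e.trans hcdef)))
  have nca : c ≠ a := fun e => npb (by rw [hp, ← e, hyc])
  have nda : d ≠ a := fun e => hcb (by rw [← hxd, e, h1])
  have ndb : d ≠ b := fun e => nca (by rw [← hxd, e, hxb])
  have npd : p ≠ d := fun e => hsq ⟨a, b, c, d, h1, rfl, rfl, by rw [← e, hyp], nab, nca.symm,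
    nda.symm, Ne.symm hcb, ndb.symm, ncd⟩
  have npq : p ≠ q := fun e => nda (y.injective (hqdef.symm.trans (e.symm.trans hp)))
  have nqa : q ≠ a := fun e => npd (y.injective (by rw [hyp, ← hqdef, e]))
  have nqb : q ≠ b := fun e => ncd (y.injective (by rw [hyc, ← hqdef, e]))
  obtain ⟨i1, s1, c1, f1⟩ := cut_spec hx h1 nab
  set x1 := swap a b * x with hx1
  have x1c : x1 c = d := by rw [f1 c nca hcb, hddef]
  obtain ⟨i2, s2, c2, f2⟩ := cut_spec i1 x1c ncd
  set x' := swap c d * x1 with hx'
  obtain ⟨j1, t1, e1, g1⟩ := cut_spec hy hp.symm (Ne.symm hpa)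
  set y1 := swap a p * y with hy1
  have y1b : y1 b = c := by rw [g1 b nab.symm npb.symm, hcdef]
  obtain ⟨j2, t2, e2, g2⟩ := cut_spec j1 y1b (Ne.symm hcb)
  set y2 := swap b c * y1 with hy2
  have y2d : y2 d = q := by rw [g2 d ndb ncd.symm, g1 d nda npd.symm]
  obtain ⟨j3, t3, e3, g3⟩ := cut_spec j2 y2d nqd.symm
  set y3 := swap d q * y2 with hy3
  have hfix3 : ∀ v ∈ ({a, p, b, c, d, q} : Finset ι), y3 v = v := by
    intro v hv
    have : v ∉ y3.support := by
      rw [t3, t2, t1]
      simp only [Finset.mem_insert, Finset.mem_singleton] at hv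
      simp only [Finset.mem_sdiff, Finset.mem_insert, Finset.mem_singleton]
      tauto
    exact Perm.notMem_support.mp this
  obtain ⟨j4, t4, e4, y'p, y'q, g4⟩ :=
    add_spec j3 (hfix3 p (by simp)) (hfix3 q (by simp)) npq
  set y' := swap p q * y3 with hy'
  have hA : ∀ v ∈ ({a, b, c, d} : Finset ι), x' v = v ∧ y' v = v := by
    intro v hv
    simp only [Finset.mem_insert, Finset.mem_singleton] at hv
    constructor
    · refine Perm.notMem_support.mp ?_
      rw [s2, s1]
      simp only [Finset.mem_sdiff, Finset.mem_insert, Finset.mem_singleton]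
      tauto
    · have h1' : v ≠ p := by rintro rfl; rcases hv with e | e | e | e <;> [exact hpa e; exact npb e; exact npc e; exact npd e]
      have h2' : v ≠ q := by rintro rfl; rcases hv with e | e | e | e <;> [exact nqa e; exact nqb e; exact nqc e; exact nqd e]
      rw [g4 v h1' h2', hfix3 v (by simp only [Finset.mem_insert, Finset.mem_singleton]; tauto)]
  have hxo : ∀ s, s ∉ ({a, b, c, d} : Finset ι) → x' s = x s := by
    intro s hs
    simp only [Finset.mem_insert, Finset.mem_singleton, not_or] at hs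
    rw [f2 s (by tauto) (by tauto), f1 s (by tauto) (by tauto)]
  have hyo : ∀ s, s ∉ ({a, b, c, d} : Finset ι) → s ≠ p → s ≠ q → y' s = y s := by
    intro s hs hsp hsq'
    simp only [Finset.mem_insert, Finset.mem_singleton, not_or] at hs
    rw [g4 s hsp hsq', g3 s (by tauto) hsq', g2 s (by tauto) (by tauto), g1 s (by tauto) hsp]
  rcases ih x' y' i2 j4 (by omega) (by omega) with hE | hG
  · -- an eight-cycle
    obtain ⟨h4, a1, b1, c1', d1, q1, q2, q3, q4, m1, m2, m3, m4, m5, m6⟩ := hE
    have hsuppx : x'.support = {a1, b1, c1', d1} := by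
      symm
      refine Finset.eq_of_subset_of_card_le ?_ (by
        rw [h4, Finset.card_insert_of_notMem (by simp [m1, m2, m3]),
          Finset.card_insert_of_notMem (by simp [m4, m5]), Finset.card_pair m6])
      simp only [Finset.insert_subset_iff, Finset.singleton_subset_iff, Perm.mem_support]
      exact ⟨by rw [q1]; exact m1.symm, by rw [← q1, i2]; exact q1 ▸ m1,
        by rw [q2]; exact m6.symm, by rw [← q2, i2]; exact q2 ▸ m6⟩
    have hsuppy : y'.support = {a1, b1, c1', d1} := by
      symm
      refine Finset.eq_of_subset_of_card_le ?_ (by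
        rw [show y'.support.card = 4 by omega, Finset.card_insert_of_notMem (by simp [m1, m2, m3]),
          Finset.card_insert_of_notMem (by simp [m4, m5]), Finset.card_pair m6])
      simp only [Finset.insert_subset_iff, Finset.singleton_subset_iff, Perm.mem_support]
      exact ⟨by rw [← q4, j4]; exact q4 ▸ m3.symm, by rw [q3]; exact m4.symm,
        by rw [← q3, j4]; exact q3 ▸ m4, by rw [q4]; exact m3⟩
    have hcomm : ∀ v ∈ ({a1, b1, c1', d1} : Finset ι), y' (x' v) = x' (y' v) ∧ x' v ≠ y' v := by
      have x2 : x' b1 = a1 := by rw [← q1, i2]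
      have x4 : x' d1 = c1' := by rw [← q2, i2]
      have y1' : y' a1 = d1 := by rw [← q4, j4]
      have y3' : y' c1' = b1 := by rw [← q3, j4]
      intro v hv
      simp only [Finset.mem_insert, Finset.mem_singleton] at hv
      rcases hv with rfl | rfl | rfl | rfl
      · exact ⟨by rw [q1, q3, y1', x4], by rw [q1, y1']; exact m5⟩
      · exact ⟨by rw [x2, y1', q3, q2], by rw [x2, q3]; exact m2⟩
      · exact ⟨by rw [q2, q4, y3', x2], by rw [q2, y3']; exact m5.symm⟩
      · exact ⟨by rw [x4, y3', q4, q1], by rw [x4, q4]; exact m2.symm⟩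
    have hpm : p ∈ y'.support := by rw [Perm.mem_support, y'p]; exact npq.symm
    have hqm : q ∈ y'.support := by rw [Perm.mem_support, y'q]; exact npq
    have hpx : p ∈ x'.support := hsuppx ▸ hsuppy ▸ hpm
    have hqx : q ∈ x'.support := hsuppx ▸ hsuppy ▸ hqm
    obtain ⟨hc1, hne1⟩ := hcomm p (hsuppy ▸ hpm)
    have hne2 := (hcomm q (hsuppy ▸ hqm)).2
    rw [y'p] at hc1 hne1
    rw [y'q] at hne2
    set r := x' p with hr
    set s := x' q with hs
    have hnotA : ∀ v ∈ x'.support, v ∉ ({a, b, c, d} : Finset ι) := fun v hv hvA =>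
      Perm.mem_support.mp hv (hA v hvA).1
    have hrA := hnotA r (Perm.apply_mem_support.mpr hpx)
    have hsA := hnotA s (Perm.apply_mem_support.mpr hqx)
    have nrp : r ≠ p := Perm.mem_support.mp hpx
    have nsq : s ≠ q := Perm.mem_support.mp hqx
    have nrs : r ≠ s := fun e => npq (x'.injective e)
    have xp : x p = r := (hxo p (hnotA p hpx)).symm
    have xq : x q = s := (hxo q (hnotA q hqx)).symm
    have yr : y r = s := (hyo r hrA nrp hne1).symm.trans hc1
    have xr : x r = p := by rw [← xp, hx]
    have xs : x s = q := by rw [← xq, hx]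
    have ys : y s = r := by rw [← yr, hy]
    simp only [Finset.mem_insert, Finset.mem_singleton, not_or] at hrA hsA
    have hnodup : List.Nodup [a, b, c, d, q, s, r, p] := by
      simp only [List.nodup_cons, List.mem_cons, List.not_mem_nil, or_false, not_or, not_false_eq_true,
        List.nodup_nil, and_true]
      exact ⟨⟨nab, nca.symm, nda.symm, nqa.symm, Ne.symm hsA.1, Ne.symm hrA.1, Ne.symm hpa⟩,
        ⟨Ne.symm hcb, ndb.symm, nqb.symm, Ne.symm hsA.2.1, Ne.symm hrA.2.1, npb.symm⟩,
        ⟨ncd, nqc.symm, Ne.symm hsA.2.2.1, Ne.symm hrA.2.2.1, npc.symm⟩,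
        ⟨nqd.symm, Ne.symm hsA.2.2.2, Ne.symm hrA.2.2.2, npd.symm⟩,
        ⟨nsq.symm, fun e => hne1 e.symm, npq.symm⟩,
        ⟨nrs.symm, hne2⟩, nrp⟩
    have hinj : Function.Injective ![a, b, c, d, q, s, r, p] := List.nodup_ofFn.mp (by simpa using hnodup)
    refine Good.component hx hy hc ⟨_, hinj⟩ _ _ _ cert_C8 (fun i => ?_) (fun i => ?_) ?_
    · fin_cases i
      all_goals first
        | exact h1 | exact hxb | exact rfl | exact hxd | exact xq | exact xs | exact xr | exact xp
    · fin_cases i
      all_goals first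
        | exact hp.symm | exact hcdef.symm | exact hyc | exact hqdef.symm | exact hyq | exact ys
        | exact yr | exact hyp
    · intro x₂ y₂ hx₂ hy₂ hcard hlt hout' hfix
      rcases ih x₂ y₂ hx₂ hy₂ hcard hlt with ⟨_, a2, b2, c2', d2, S⟩ | hG
      · exfalso
        obtain ⟨S1, S2, S3, S4, S5, -⟩ := S
        have hcardx : x.support.card ≤ 8 := by omega
        have : x₂.support = ∅ := by
          by_contra hne
          have h8 : ({a, b, c, d, q, s, r, p} : Finset ι) ⊆ x.support := by
            intro v hv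
            simp only [Finset.mem_insert, Finset.mem_singleton] at hv
            rw [Perm.mem_support]
            rcases hv with rfl | rfl | rfl | rfl | rfl | rfl | rfl | rfl
            · rw [h1]; exact nab.symm
            · rw [hxb]; exact nab
            · exact hdc
            · rw [hxd]; exact ncd
            · rw [xq]; exact nsq
            · rw [xs]; exact nsq.symm
            · rw [xr]; exact nrp.symm
            · rw [xp]; exact nrp
          obtain ⟨v, hv⟩ := Finset.nonempty_iff_ne_empty.mpr hne
          have hvx : v ∈ x.support := by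
            rw [Perm.mem_support] at hv ⊢
            by_cases hr' : v ∈ Set.range ![a, b, c, d, q, s, r, p]
            · obtain ⟨i, rfl⟩ := hr'
              exact absurd (hfix i).1 hv
            · exact fun e => hv (((hout' v hr').1).trans e)
          have h8eq := Finset.eq_of_subset_of_card_le h8 (by
            have e8 : ({a, b, c, d, q, s, r, p} : Finset ι) = Finset.univ.map ⟨_, hinj⟩ := by
              ext w
              simp [Fin.exists_fin_succ, eq_comm]
            rw [e8, Finset.card_map, Finset.card_univ, Fintype.card_fin]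
            exact hcardx)
          rw [← h8eq] at hvx
          simp only [Finset.mem_insert, Finset.mem_singleton] at hvx
          rcases hvx with rfl | rfl | rfl | rfl | rfl | rfl | rfl | rfl
          · exact Perm.mem_support.mp hv (hfix 0).1
          · exact Perm.mem_support.mp hv (hfix 1).1
          · exact Perm.mem_support.mp hv (hfix 2).1
          · exact Perm.mem_support.mp hv (hfix 3).1
          · exact Perm.mem_support.mp hv (hfix 4).1
          · exact Perm.mem_support.mp hv (hfix 5).1
          · exact Perm.mem_support.mp hv (hfix 6).1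
          · exact Perm.mem_support.mp hv (hfix 7).1
        have := Finset.eq_empty_iff_forall_notMem.mp this a2
        rw [Perm.mem_support, not_not, S1] at this
        exact S5 this.symm
      · exact hG
  · -- expand the contraction
    obtain ⟨z', hz', hcz, hsub, ho1, ho2⟩ := hG
    have hzA : ∀ v ∈ ({a, b, c, d} : Finset ι), z' v = v := by
      intro v hv
      by_contra hne'
      rcases Finset.mem_union.mp (hsub (Perm.mem_support.mpr hne')) with h' | h'
      · exact Perm.mem_support.mp h' (hA v hv).1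
      · exact Perm.mem_support.mp h' (hA v hv).2
    obtain ⟨k1, u1, d1', za, zb, l1⟩ := add_spec hz' (hzA a (by simp)) (hzA b (by simp)) nab
    set z1 := swap a b * z' with hz1
    have z1c : z1 c = c := by rw [l1 c nca hcb, hzA c (by simp)]
    have z1d : z1 d = d := by rw [l1 d nda ndb, hzA d (by simp)]
    obtain ⟨k2, u2, d2', zc, zd, l2⟩ := add_spec k1 z1c z1d ncd
    set z := swap c d * z1 with hz
    have Za : z a = b := by rw [l2 a nca.symm nda.symm, za]
    have Zb : z b = a := by rw [l2 b (Ne.symm hcb) ndb.symm, zb]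
    have Zo : ∀ s, s ∉ ({a, b, c, d} : Finset ι) → z s = z' s := by
      intro s hs
      simp only [Finset.mem_insert, Finset.mem_singleton, not_or] at hs
      rw [l2 s (by tauto) (by tauto), l1 s (by tauto) (by tauto)]
    have hzout : ∀ s, s ∉ ({a, b, c, d} : Finset ι) → z' s ∉ ({a, b, c, d} : Finset ι) := by
      intro s hs hmem
      have e := hzA _ hmem
      rw [hz'] at e
      exact hs (e.symm ▸ hmem)
    clear_value z
    have hxz : x * z = x' * z' := by
      refine Equiv.ext fun s => ?_
      rw [Perm.mul_apply, Perm.mul_apply]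
      by_cases hs : s ∈ ({a, b, c, d} : Finset ι)
      · rw [hzA s hs, (hA s hs).1]
        simp only [Finset.mem_insert, Finset.mem_singleton] at hs
        rcases hs with e | e | e | e <;> rw [e]
        · rw [Za, hxb]
        · rw [Zb, h1]
        · rw [zc, hxd]
        · rw [zd, hddef]
      · rw [Zo s hs, hxo _ (hzout s hs)]
    refine ⟨z, k2, by omega, ?_, hxz ▸ ho1, ?_⟩
    · intro v hv
      rw [Finset.mem_union, Perm.mem_support, Perm.mem_support]
      by_contra hcon
      simp only [not_or, not_not] at hcon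
      have hvA : v ∉ ({a, b, c, d} : Finset ι) := by
        simp only [Finset.mem_insert, Finset.mem_singleton, not_or]
        refine ⟨?_, ?_, ?_, ?_⟩ <;> intro e <;> rw [e] at hcon
        · exact hpa (hp.trans hcon.2)
        · exact hcb (hcdef.trans hcon.2)
        · exact hdc (hddef.trans hcon.1)
        · exact hqd (hqdef.trans hcon.2)
      have hvp : v ≠ p := fun e => hpa (by rw [← hyp, ← e, hcon.2])
      have hvq : v ≠ q := fun e => nqd (by rw [← hyq, ← e, hcon.2])
      refine Perm.mem_support.mp hv ?_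
      rw [Zo v hvA]
      by_contra hne'
      rcases Finset.mem_union.mp (hsub (Perm.mem_support.mpr hne')) with h' | h'
      · exact Perm.mem_support.mp h' (by rw [hxo v hvA, hcon.1])
      · exact Perm.mem_support.mp h' (by rw [hyo v hvA hvp hvq, hcon.2])
    · refine odd_of_lift ({a, b, c, d} : Finset ι) (fun v hv => ?_) ho2 ?_ ?_
      · rw [Perm.mul_apply, hzA v hv, (hA v hv).2]
      · intro s hs
        by_cases hsp : z' s = p
        · exact ⟨3, by decide, by
            simp only [pow_succ, pow_zero, one_mul, Perm.mul_apply, Zo s hs, hsp, hyp, Za,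
              ← hcdef, zc, ← hqdef, y'p]⟩
        by_cases hsq' : z' s = q
        · exact ⟨3, by decide, by
            simp only [pow_succ, pow_zero, one_mul, Perm.mul_apply, Zo s hs, hsq', hyq, zd,
              hyc, Zb, ← hp, y'q]⟩
        exact ⟨1, odd_one, by
          rw [pow_one, Perm.mul_apply, Perm.mul_apply, Zo s hs, hyo _ (hzout s hs) hsp hsq']⟩
      · intro v hv
        have hout : ∀ t, t ∉ ({a, b, c, d} : Finset ι) →
            ∃ s, s ∉ ({a, b, c, d} : Finset ι) ∧ z s = t := fun t ht =>
          ⟨z' t, hzout t ht, by rw [Zo _ (hzout t ht), hz']⟩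
        obtain ⟨sp, hsp, zsp⟩ := hout p (by
          simp only [Finset.mem_insert, Finset.mem_singleton, not_or]
          exact ⟨hpa, npb, npc, npd⟩)
        obtain ⟨sq, hsq', zsq⟩ := hout q (by
          simp only [Finset.mem_insert, Finset.mem_singleton, not_or]
          exact ⟨nqa, nqb, nqc, nqd⟩)
        simp only [Finset.mem_insert, Finset.mem_singleton] at hv
        rcases hv with e | e | e | e <;> rw [e]
        · exact ⟨sp, hsp, 1, by rw [pow_one, Perm.mul_apply, zsp, hyp]⟩
        · exact ⟨sq, hsq', 2, by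
            simp only [pow_succ, pow_zero, one_mul, Perm.mul_apply, zsq, hyq, zd, hyc]⟩
        · exact ⟨sp, hsp, 2, by
            simp only [pow_succ, pow_zero, one_mul, Perm.mul_apply, zsp, hyp, Za, ← hcdef]⟩
        · exact ⟨sq, hsq', 1, by rw [pow_one, Perm.mul_apply, zsq, hyq]⟩

end Cfsg.Agent.OddProd
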